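import Groth.Agent.S1967
import Groth.Agent.Lib.WeaklyEt.Olivier
import Mathlib.RingTheory.Localization.BaseChange
import Mathlib.RingTheory.IntegralClosure.IntegrallyClosed

/-!
A weakly étale local algebra over a normal domain is a normal domain.
-/

open TensorProduct

universe u

namespace Groth.Agent.H56.WEStalk

theorem normal_of_local (A B : Type u) [CommRing A] [CommRing B] [IsDomain A] [IsIntegrallyClosed A]
    [IsLocalRing B] [Algebra A B] [Algebra.WeaklyEtale A B] :
    IsDomain B ∧ IsIntegrallyClosed B := by
  let K := FractionRing A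
  have hcl : IsIntegrallyClosedIn B (B ⊗[A] K) := Groth.Agent.S1967.result A K B
  obtain ⟨hinj, hint⟩ := isIntegrallyClosedIn_iff.mp hcl
  have : Nontrivial (B ⊗[A] K) := hinj.nontrivial
  let c := Algebra.TensorProduct.comm A K B
  have : Nontrivial (K ⊗[A] B) := c.toEquiv.nontrivial
  have hD : IsField (K ⊗[A] B) := by
    refine Groth.Agent.Lib.WeaklyEt.Olivier.isField_of_idempotent K fun e he => ?_
    have hce : c e * c e = c e := by rw [← map_mul, he]
    have hi : IsIntegral B (c e) := by
      refine ⟨Polynomial.X ^ 2 - Polynomial.X,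
        Polynomial.monic_X_pow_sub (by rw [Polynomial.degree_X]; decide), ?_⟩
      simp [pow_two, hce]
    obtain ⟨b, hb⟩ := hint hi
    have hbb : b * b = b := hinj (by rw [map_mul, hb, hce])
    rcases IsLocalRing.isUnit_or_isUnit_one_sub_self b with h | h
    · refine Or.inr (c.injective ?_)
      rw [← hb, h.mul_left_cancel (hbb.trans (mul_one b).symm), map_one, map_one]
    · refine Or.inl (c.injective ?_)
      have : b = 0 := h.mul_left_cancel (by rw [mul_zero, sub_mul, one_mul, hbb, sub_self])
      rw [← hb, this, map_zero, map_zero]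
  have hC : IsField (B ⊗[A] K) := c.symm.toMulEquiv.isField hD
  have : IsDomain (B ⊗[A] K) := hC.isDomain
  have hB : IsDomain B := hinj.isDomain (algebraMap B (B ⊗[A] K))
  let M := Algebra.algebraMapSubmonoid B (nonZeroDivisors A)
  have hloc : IsLocalization M (B ⊗[A] K) := IsLocalization.tensor K (nonZeroDivisors A)
  have hfrac : IsFractionRing B (B ⊗[A] K) := by
    refine IsLocalization.isLocalization_of_is_exists_mul_mem (M := M) (N := nonZeroDivisors B) _ ?_ ?_
    · intro m hm
      refine mem_nonZeroDivisors_of_ne_zero fun h0 => ?_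
      have hu := IsLocalization.map_units (B ⊗[A] K) (⟨m, hm⟩ : M)
      simp [h0] at hu
    · intro x
      have hx : algebraMap B (B ⊗[A] K) x ≠ 0 := fun h0 =>
        nonZeroDivisors.coe_ne_zero x (hinj (h0.trans (map_zero _).symm))
      obtain ⟨y, hy⟩ := hC.mul_inv_cancel hx
      obtain ⟨⟨b, m⟩, hbm⟩ := IsLocalization.surj M y
      refine ⟨b, ?_⟩
      have : b * (x : B) = (m : B) := hinj (by
        rw [map_mul, ← hbm, mul_comm, ← mul_assoc, hy, one_mul])
      rw [this]
      exact m.2
  exact ⟨hB, (isIntegrallyClosed_iff (B ⊗[A] K)).mpr hint⟩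

end Groth.Agent.H56.WEStalk
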