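import Groth.Agent.H56.WeaklyEtale
import Groth.Agent.H56.SpecStalk

/-!
Weakly étale morphisms and stalk maps.
-/

open CategoryTheory AlgebraicGeometry Limits

universe u

namespace Groth.Agent.H56.WEStalk

variable {X Y : Scheme.{u}}

set_option backward.isDefEq.respectTransparency.types false in
theorem weaklyEtale_fromSpecStalk (x : X) : WeaklyEtale (X.fromSpecStalk x) :=
  ⟨inferInstance, inferInstance⟩

theorem flat_of_comp_bijective {A B C : Type u} [CommRing A] [CommRing B] [CommRing C]
    (g : A →+* B) (e : B →+* C) (he : Function.Bijective e) (h : (e.comp g).Flat) : g.Flat := by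
  let e' := RingEquiv.ofBijective e he
  have h2 := h.comp (RingHom.Flat.of_bijective (f := e'.symm.toRingHom) e'.symm.bijective)
  convert h2 using 1
  ext a
  exact (e'.symm_apply_apply _).symm

set_option backward.isDefEq.respectTransparency.types false in
theorem flat_stalkMap_of_flat_fromSpecStalk_comp (g : X ⟶ Y) (x : X)
    [Flat (X.fromSpecStalk x ≫ g)] : (g.stalkMap x).hom.Flat := by
  have key : ∀ {Z : Scheme.{u}} (ι : Z ⟶ X) [Flat ι] [IsPreimmersion ι] [Flat (ι ≫ g)] (z : Z),
      (g.stalkMap (ι z)).hom.Flat := by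
    intro Z ι _ _ _ z
    have h := Flat.stalkMap (ι ≫ g) z
    rw [Scheme.Hom.stalkMap_comp] at h
    exact flat_of_comp_bijective _ _ (SpecStalk.stalkMap_bijective ι z) h
  have := key (X.fromSpecStalk x) (IsLocalRing.closedPoint (X.presheaf.stalk x))
  rwa [Scheme.fromSpecStalk_closedPoint] at this

theorem weaklyEtale_stalk (f : X ⟶ Y) [WeaklyEtale f] (x : X) :
    WeaklyEtale (Spec.map (f.stalkMap x)) := by
  have := weaklyEtale_fromSpecStalk x
  have := weaklyEtale_fromSpecStalk (f x)
  have : WeaklyEtale (Spec.map (f.stalkMap x) ≫ Y.fromSpecStalk (f x)) := by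
    rw [Scheme.SpecMap_stalkMap_fromSpecStalk]
    infer_instance
  exact WeaklyEtale.of_comp (Spec.map (f.stalkMap x)) (Y.fromSpecStalk (f x))

set_option backward.isDefEq.respectTransparency.types false in
theorem weaklyEtale_of_stalk (f : X ⟶ Y)
    (h : ∀ x, WeaklyEtale (Spec.map (f.stalkMap x))) : WeaklyEtale f := by
  refine ⟨Flat.of_stalkMap _ fun x => Flat.SpecMap_iff.mp (h x).flat,
    Flat.of_stalkMap _ fun x => ?_⟩
  let ι := X.fromSpecStalk x
  have := h x
  have := weaklyEtale_fromSpecStalk (f x)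
  have : WeaklyEtale (ι ≫ f) := by
    rw [← Scheme.SpecMap_stalkMap_fromSpecStalk]
    infer_instance
  have hmap : Flat (pullback.map (ι ≫ f) (ι ≫ f) f f ι ι (𝟙 Y) (by simp) (by simp)) :=
    MorphismProperty.pullbackMap (P := @Flat) inferInstance inferInstance rfl rfl
  have heq : ι ≫ pullback.diagonal f = pullback.diagonal (ι ≫ f) ≫
      pullback.map (ι ≫ f) (ι ≫ f) f f ι ι (𝟙 Y) (by simp) (by simp) := by
    apply pullback.hom_ext <;> simp [pullback.map, pullback.diagonal, pullback.lift_fst, pullback.lift_snd, pullback.lift_fst_assoc, pullback.lift_snd_assoc]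
  have : Flat (ι ≫ pullback.diagonal f) := heq ▸ inferInstance
  exact flat_stalkMap_of_flat_fromSpecStalk_comp _ x

end Groth.Agent.H56.WEStalk
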